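import Groth.Agent.L12.Kvb.Lambda
import Groth.Agent.L12.ExtSh.TensBasis
import Groth.Agent.L18.KRRAmple
import Groth.Agent.L08.Cube.Inverse
import Groth.Agent.L22.ExtSh.GenRank

/-!
# The positive structure on the ring of bundles of a connected scheme
-/

set_option autoImplicit false
set_option linter.style.haveILetI false
set_option backward.isDefEq.respectTransparency false
set_option backward.isDefEq.respectTransparency.types false

universe u

open CategoryTheory CategoryTheory.Limits AlgebraicGeometry Opposite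
open Groth.L19.ProjBdl (IsBasisOn)

noncomputable section

namespace Groth.L12.Kvb

variable {X : Scheme.{u}}

theorem rank_eq_of_basis {E : X.Modules} {r n : ℕ} (hE : FlatMod.IsFinLocFreeOfRank r E) {x : X} {W : X.Opens}
    {b : Fin n → Γ(E, W)} (hx : x ∈ W) (hb : IsBasisOn E W b) : n = r := by
  obtain ⟨U, hxU, ⟨i⟩⟩ := hE x
  obtain ⟨e⟩ := Groth.L20.ResDescent.nonempty_iso_free (le_of_eq (W.ι_preimage_self).symm) (hb.pullback W.ι)
  exact Groth.L18.KRRAmple.rank_unique hx hxU ((Scheme.Modules.restrictFunctorIsoPullback W.ι).app E ≪≫ e) i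

theorem isZero_of_rank_zero {E : X.Modules} (hE : FlatMod.IsFinLocFreeOfRank 0 E) : IsZero E := by
  choose U hx e using hE
  refine Groth.L21.Mod.isZero_of_restrict (fun x : X => (U x).ι) (fun x => ⟨x, ⟨x, hx x⟩, rfl⟩) E fun x => ?_
  refine IsZero.of_iso ?_ (e x).some
  rw [IsZero.iff_id_eq_zero]
  exact Sigma.hom_ext _ _ fun i => i.elim0

theorem rank_middle [Nonempty X] {S : ShortComplex X.Modules} (hS : S.ShortExact) {p q r : ℕ}
    (h₁ : FlatMod.IsFinLocFreeOfRank p S.X₁) (h₂ : FlatMod.IsFinLocFreeOfRank r S.X₂)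
    (h₃ : FlatMod.IsFinLocFreeOfRank q S.X₃) : r = p + q := by
  obtain ⟨x⟩ := (inferInstance : Nonempty X)
  obtain ⟨U, p', q', a, σ, hxU, -, ha, hσ⟩ := Groth.L12.ExtSh.exists_split_bases hS
    (Groth.L18.KRRAmple.isFinLocFree_of_rank h₁) (Groth.L18.KRRAmple.isFinLocFree_of_rank h₃) x ⊤ trivial
  rw [← rank_eq_of_basis h₁ hxU ha, ← rank_eq_of_basis h₃ hxU hσ,
    ← rank_eq_of_basis h₂ hxU (Groth.L12.ExtSh.isBasisOn_append hS ha hσ)]

theorem rank_tensor [Nonempty X] {E F : X.Modules} {p q r : ℕ} (hE : FlatMod.IsFinLocFreeOfRank p E)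
    (hF : FlatMod.IsFinLocFreeOfRank q F) (h : FlatMod.IsFinLocFreeOfRank r (CohB1.tensorMod E F)) : r = p * q := by
  obtain ⟨x⟩ := (inferInstance : Nonempty X)
  obtain ⟨W, n, m, b, c, hx, -, hb, hc⟩ := Groth.L16.HomSh.exists_bases (Groth.L18.KRRAmple.isFinLocFree_of_rank hE)
    (Groth.L18.KRRAmple.isFinLocFree_of_rank hF) x ⊤ trivial
  rw [← rank_eq_of_basis hE hx hb, ← rank_eq_of_basis hF hx hc,
    ← rank_eq_of_basis h hx (Groth.L12.ExtSh.isBasisOn_tens hb hc)]

variable [ConnectedSpace X]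

open scoped Classical in
/-- The rank of a bundle. -/
def rk (E : X.Modules) : ℤ :=
  if h : FlatMod.IsFinLocFree E then ((Groth.L18.KRRAmple.exists_rank h).choose : ℤ) else 0

theorem rk_eq {E : X.Modules} {n : ℕ} (hE : FlatMod.IsFinLocFreeOfRank n E) : rk E = n := by
  have h := Groth.L18.KRRAmple.isFinLocFree_of_rank hE
  rw [rk, dif_pos h]
  obtain ⟨x⟩ := (inferInstance : Nonempty X)
  obtain ⟨U, hxU, ⟨i⟩⟩ := hE x
  obtain ⟨V, hxV, ⟨j⟩⟩ := (Groth.L18.KRRAmple.exists_rank h).choose_spec x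
  exact_mod_cast Groth.L18.KRRAmple.rank_unique hxV hxU j i

theorem rk_shortExact (S : ShortComplex X.Modules) (hS : S.ShortExact) (h₁ : FlatMod.IsFinLocFree S.X₁)
    (h₂ : FlatMod.IsFinLocFree S.X₂) (h₃ : FlatMod.IsFinLocFree S.X₃) : rk S.X₂ = rk S.X₁ + rk S.X₃ := by
  obtain ⟨p, hp⟩ := Groth.L18.KRRAmple.exists_rank h₁
  obtain ⟨r, hr⟩ := Groth.L18.KRRAmple.exists_rank h₂
  obtain ⟨q, hq⟩ := Groth.L18.KRRAmple.exists_rank h₃
  rw [rk_eq hp, rk_eq hr, rk_eq hq, rank_middle hS hp hr hq, Nat.cast_add]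

/-- The rank on classes. -/
def rkHom : KR X →+ ℤ := Groth.L29.KSub.lift (P := KRR.vbP X) rk rk_shortExact

theorem rkHom_cl {n : ℕ} {E : X.Modules} (hE : FlatMod.IsFinLocFreeOfRank n E) :
    rkHom (toKR X (KRR.cl X E)) = n :=
  (Groth.L29.KSub.lift_clSub _ _ (Groth.L18.KRRAmple.isFinLocFree_of_rank hE)).trans (rk_eq hE)

theorem isRankOne_O : FlatMod.IsFinLocFreeOfRank 1 (Coh.structureModule X) :=
  Groth.L18.KRRAmple.isRankOne_of_isInvertible (Groth.L18.Ample.isInvertible_structureModule X)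

/-- The augmentation. -/
def augHom : KR X →+* ℤ :=
  { rkHom (X := X) with
    map_one' := by
      show rkHom (toKR X (KRR.cl X (Coh.structureModule X))) = 1
      rw [rkHom_cl isRankOne_O, Nat.cast_one]
    map_mul' := fun x y => by
      let L : KR X →+ KR X →+ ℤ := AddMonoidHom.mk' (fun x => rkHom.comp (AddMonoidHom.mulLeft x)) fun a b => by
        ext c; simp [add_mul]
      let R : KR X →+ KR X →+ ℤ := AddMonoidHom.mk' (fun x => (AddMonoidHom.mulLeft (rkHom x)).comp rkHom) fun a b => by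
        ext c; simp [add_mul]
      have h : L = R := Groth.L29.KSub.hom_ext (P := KRR.vbP X) fun E hE =>
        Groth.L29.KSub.hom_ext (P := KRR.vbP X) fun F hF => by
          show rkHom (toKR X (KRR.cl X E) * toKR X (KRR.cl X F)) =
            rkHom (toKR X (KRR.cl X E)) * rkHom (toKR X (KRR.cl X F))
          obtain ⟨p, hp⟩ := Groth.L18.KRRAmple.exists_rank hE
          obtain ⟨q, hq⟩ := Groth.L18.KRRAmple.exists_rank hF
          obtain ⟨r, hr⟩ := Groth.L18.KRRAmple.exists_rank (Groth.L29.DC.isFinLocFree_tensor hE hF)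
          rw [toKR_cl_mul hE hF, rkHom_cl hp, rkHom_cl hq, rkHom_cl hr, rank_tensor hp hq hr, Nat.cast_mul]
      exact DFunLike.congr_fun (DFunLike.congr_fun h x) y }

theorem augHom_cl {n : ℕ} {E : X.Modules} (hE : FlatMod.IsFinLocFreeOfRank n E) :
    augHom (toKR X (KRR.cl X E)) = n := rkHom_cl hE

/-- Classes of bundles of positive rank. -/
def posSet : Set (KR X) :=
  {x | ∃ (n : ℕ) (E : X.Modules), 1 ≤ n ∧ FlatMod.IsFinLocFreeOfRank n E ∧ toKR X (KRR.cl X E) = x}

theorem cl_biprod {E F : X.Modules} (hE : FlatMod.IsFinLocFree E) (hF : FlatMod.IsFinLocFree F) :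
    KRR.cl X (E ⊞ F) = KRR.cl X E + KRR.cl X F :=
  Groth.L29.KSub.clSub_biprod (KRR.vbP X) hE hF (Groth.L29.LocFree.biprod hE hF)

theorem add_mem_posSet {a b : KR X} (ha : a ∈ posSet) (hb : b ∈ posSet) : a + b ∈ posSet := by
  obtain ⟨n, E, hn, hE, rfl⟩ := ha
  obtain ⟨m, F, -, hF, rfl⟩ := hb
  have hE' := Groth.L18.KRRAmple.isFinLocFree_of_rank hE
  have hF' := Groth.L18.KRRAmple.isFinLocFree_of_rank hF
  obtain ⟨r, hr⟩ := Groth.L18.KRRAmple.exists_rank (Groth.L29.LocFree.biprod hE' hF')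
  have h : (r : ℤ) = n + m := by
    rw [← augHom_cl hr, ← augHom_cl hE, ← augHom_cl hF, cl_biprod hE' hF', map_add (toKR X), map_add]
  exact ⟨r, _, by omega, hr, by rw [cl_biprod hE' hF', map_add]⟩

theorem one_mem_posSet : (1 : KR X) ∈ posSet :=
  ⟨1, _, le_rfl, isRankOne_O, toKR_one⟩

theorem natCast_mem_posSet : ∀ n : ℕ, 0 < n → (n : KR X) ∈ posSet
  | 0, h => absurd h (lt_irrefl 0)
  | 1, _ => by rw [Nat.cast_one]; exact one_mem_posSet
  | n + 2, _ => by
    rw [Nat.cast_succ]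
    exact add_mem_posSet (natCast_mem_posSet (n + 1) n.succ_pos) one_mem_posSet

theorem exists_sub_cl (x : KR X) : ∃ E F : X.Modules, FlatMod.IsFinLocFree E ∧ FlatMod.IsFinLocFree F ∧
    x = toKR X (KRR.cl X E) - toKR X (KRR.cl X F) := by
  let D : AddSubgroup (KR X) :=
    { carrier := {x | ∃ E F : X.Modules, FlatMod.IsFinLocFree E ∧ FlatMod.IsFinLocFree F ∧
        x = toKR X (KRR.cl X E) - toKR X (KRR.cl X F)}
      zero_mem' := ⟨_, _, isFinLocFree_O, isFinLocFree_O, (sub_self _).symm⟩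
      add_mem' := by
        rintro _ _ ⟨E, F, hE, hF, rfl⟩ ⟨E', F', hE', hF', rfl⟩
        refine ⟨E ⊞ E', F ⊞ F', Groth.L29.LocFree.biprod hE hE', Groth.L29.LocFree.biprod hF hF', ?_⟩
        rw [cl_biprod hE hE', cl_biprod hF hF', map_add, map_add]
        abel
      neg_mem' := by
        rintro _ ⟨E, F, hE, hF, rfl⟩
        exact ⟨F, E, hF, hE, neg_sub _ _⟩ }
  have h : (QuotientAddGroup.mk' D).comp (AddMonoidHom.id (KR X)) = 0 :=
    Groth.L29.KSub.hom_ext (P := KRR.vbP X) fun E hE => (QuotientAddGroup.eq_zero_iff _).2 (by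
      refine ⟨E ⊞ E, E, Groth.L29.LocFree.biprod hE hE, hE, ?_⟩
      rw [cl_biprod hE hE, map_add, add_sub_cancel_right]
      rfl)
  exact (QuotientAddGroup.eq_zero_iff (N := D) x).1 (DFunLike.congr_fun h x)

/-- The positive structure. -/
def posStructure : LambdaRing.PosStructure (KR X) where
  aug := augHom
  aug_surjective := fun z => ⟨(z : KR X), map_intCast augHom z⟩
  pos := posSet
  add_mem := fun _ _ => add_mem_posSet
  mul_mem := by
    rintro _ _ ⟨n, E, hn, hE, rfl⟩ ⟨m, F, hm, hF, rfl⟩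
    have hE' := Groth.L18.KRRAmple.isFinLocFree_of_rank hE
    have hF' := Groth.L18.KRRAmple.isFinLocFree_of_rank hF
    obtain ⟨r, hr⟩ := Groth.L18.KRRAmple.exists_rank (Groth.L29.DC.isFinLocFree_tensor hE' hF')
    exact ⟨r, _, (rank_tensor hE hF hr).symm ▸ Nat.mul_pos hn hm, hr, (toKR_cl_mul hE' hF').symm⟩
  natCast_mem := natCast_mem_posSet
  exists_sub := fun x => by
    obtain ⟨E, F, hE, hF, rfl⟩ := exists_sub_cl x
    have hpos : ∀ G : X.Modules, FlatMod.IsFinLocFree G → toKR X (KRR.cl X G) + 1 ∈ posSet (X := X) := by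
      intro G hG
      obtain ⟨n, hn⟩ := Groth.L18.KRRAmple.exists_rank hG
      rcases Nat.eq_zero_or_pos n with rfl | hn'
      · have h0 := Groth.L29.KSub.clSub_zero (KRR.vbP X) (isZero_of_rank_zero hn) hG
        rw [show KRR.cl X G = 0 from h0, map_zero, zero_add]
        exact one_mem_posSet
      · exact add_mem_posSet ⟨n, G, hn', hn, rfl⟩ one_mem_posSet
    exact ⟨_, _, hpos E hE, hpos F hF, by abel⟩
  aug_pos := by
    rintro _ ⟨n, E, hn, hE, rfl⟩
    rw [augHom_cl hE]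
    exact_mod_cast hn
  lam_eq_zero := by
    rintro _ ⟨n, E, hn, hE, rfl⟩ i hi
    have hE' := Groth.L18.KRRAmple.isFinLocFree_of_rank hE
    haveI := Groth.L29.DC.PCQCoh.isQCoh_of_isFinLocFree hE'
    rw [augHom_cl hE] at hi
    rw [lam_cl hE' (Groth.L12.ExtSh.isExtPow_wedgeMod E i)]
    have hL := Groth.L12.ExtSh.isFinLocFreeOfRank_of_isExtPow hE (Groth.L12.ExtSh.isExtPow_wedgeMod E i)
    rw [Nat.choose_eq_zero_of_lt (show n < i by exact_mod_cast hi)] at hL
    have h0 := Groth.L29.KSub.clSub_zero (KRR.vbP X) (isZero_of_rank_zero hL)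
      (Groth.L18.KRRAmple.isFinLocFree_of_rank hL)
    rw [show KRR.cl X _ = 0 from h0, map_zero]
  isUnit_lam := by
    rintro _ ⟨n, E, hn, hE, rfl⟩
    have hE' := Groth.L18.KRRAmple.isFinLocFree_of_rank hE
    haveI := Groth.L29.DC.PCQCoh.isQCoh_of_isFinLocFree hE'
    rw [augHom_cl hE, Int.toNat_natCast, lam_cl hE' (Groth.L12.ExtSh.isExtPow_wedgeMod E n)]
    have hL := Groth.L12.ExtSh.isFinLocFreeOfRank_of_isExtPow hE (Groth.L12.ExtSh.isExtPow_wedgeMod E n)
    rw [Nat.choose_self] at hL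
    obtain ⟨M, hM, ⟨e⟩⟩ := Groth.L08.Cube.exists_inverse (Groth.L22.GenRank.isInvertible_of_rank_one hL)
    have hL' := Groth.L18.KRRAmple.isFinLocFree_of_rank hL
    have hM' := Groth.L16.Existence.isFinLocFree_of_isInvertible hM
    refine isUnit_iff_exists_inv.2 ⟨toKR X (KRR.cl X M), ?_⟩
    rw [toKR_cl_mul hL' hM', cl_iso e (Groth.L29.DC.isFinLocFree_tensor hL' hM'), toKR_one]

theorem isModel : KRR.IsModel X (KR X) posStructure (toKR X) where
  bijective := toKR_bijective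
  map_one := toKR_one
  map_mul _ _ hE hF := toKR_cl_mul hE hF
  map_lam _ _ _ hE _ hL := lam_cl hE hL
  aug_cl _ _ hE := augHom_cl hE
  mem_pos_iff _ := Iff.rfl

end Groth.L12.Kvb
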