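import Groth.Agent.L12.Kvb.Ring
import Groth.Agent.S3205
import Groth.Prelude.Def_LambdaRing
import Mathlib.RingTheory.PowerSeries.Inverse

/-!
# The λ-operations on the ring of bundles
-/

set_option autoImplicit false
set_option linter.style.haveILetI false
set_option backward.isDefEq.respectTransparency false
set_option backward.isDefEq.respectTransparency.types false

universe u

open CategoryTheory CategoryTheory.Limits AlgebraicGeometry Opposite

noncomputable section

namespace Groth.L12.Kvb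

variable {X : Scheme.{u}}

theorem isExtPow_zero (E : X.Modules) : ExtPow.IsExtPow 0 E (Coh.structureModule X) := by
  refine ⟨fun U => (exteriorPower.zeroEquiv Γ(X, U.1) (E.val.obj (op U.1))).symm, fun U V hVU e => ?_⟩
  simp only [LinearEquiv.symm_symm]
  refine (congrArg _ (exteriorPower.zeroEquiv_ιMulti (R := Γ(X, U.1)) (M := E.val.obj (op U.1)) e)).trans ?_
  refine (map_one (X.presheaf.map (homOfLE hVU).op).hom).trans ?_
  exact (exteriorPower.zeroEquiv_ιMulti (R := Γ(X, V.1)) (M := E.val.obj (op V.1)) _).symm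

theorem isExtPow_one (E : X.Modules) : ExtPow.IsExtPow 1 E E := by
  refine ⟨fun U => (exteriorPower.oneEquiv Γ(X, U.1) (E.val.obj (op U.1))).symm, fun U V hVU e => ?_⟩
  simp only [LinearEquiv.symm_symm, exteriorPower.oneEquiv_ιMulti]

open scoped Classical in
/-- The class of an exterior power of a bundle. -/
def wedgeCl (E : X.Modules) (i : ℕ) : KR X :=
  if h : FlatMod.IsFinLocFree E then
    haveI := Groth.L29.DC.PCQCoh.isQCoh_of_isFinLocFree h
    toKR X (KRR.cl X (Groth.L12.ExtSh.wedgeMod E i))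
  else 0

theorem wedgeCl_eq {E L : X.Modules} (hE : FlatMod.IsFinLocFree E) {i : ℕ} (hL : ExtPow.IsExtPow i E L) :
    wedgeCl E i = toKR X (KRR.cl X L) := by
  haveI := Groth.L29.DC.PCQCoh.isQCoh_of_isFinLocFree hE
  rw [wedgeCl, dif_pos hE]
  obtain ⟨e⟩ := Groth.L12.ExtSh.nonempty_iso_of_isExtPow (Groth.L12.ExtSh.isExtPow_wedgeMod E i) hL
  exact congrArg (toKR X) (cl_iso e (Groth.L12.ExtSh.isFinLocFree_wedgeMod hE i))

theorem wedgeCl_zero {E : X.Modules} (hE : FlatMod.IsFinLocFree E) : wedgeCl E 0 = 1 :=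
  (wedgeCl_eq hE (isExtPow_zero E)).trans toKR_one

theorem wedgeCl_one {E : X.Modules} (hE : FlatMod.IsFinLocFree E) : wedgeCl E 1 = toKR X (KRR.cl X E) :=
  wedgeCl_eq hE (isExtPow_one E)

theorem wedgeCl_shortExact {S : ShortComplex X.Modules} (hS : S.ShortExact) (h₁ : FlatMod.IsFinLocFree S.X₁)
    (h₂ : FlatMod.IsFinLocFree S.X₂) (h₃ : FlatMod.IsFinLocFree S.X₃) (n : ℕ) :
    wedgeCl S.X₂ n = ∑ i ∈ Finset.range (n + 1), wedgeCl S.X₁ i * wedgeCl S.X₃ (n - i) := by
  haveI := Groth.L29.DC.PCQCoh.isQCoh_of_isFinLocFree h₁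
  haveI := Groth.L29.DC.PCQCoh.isQCoh_of_isFinLocFree h₂
  haveI := Groth.L29.DC.PCQCoh.isQCoh_of_isFinLocFree h₃
  have h := Groth.Agent.S3205.result X S hS h₁ h₂ h₃ (fun i => Groth.L12.ExtSh.wedgeMod S.X₁ i)
    (fun i => Groth.L12.ExtSh.wedgeMod S.X₂ i) (fun i => Groth.L12.ExtSh.wedgeMod S.X₃ i)
    (fun i => ⟨Groth.L12.ExtSh.isFinLocFree_wedgeMod h₁ i, Groth.L12.ExtSh.isExtPow_wedgeMod _ i⟩)
    (fun i => ⟨Groth.L12.ExtSh.isFinLocFree_wedgeMod h₂ i, Groth.L12.ExtSh.isExtPow_wedgeMod _ i⟩)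
    (fun i => ⟨Groth.L12.ExtSh.isFinLocFree_wedgeMod h₃ i, Groth.L12.ExtSh.isExtPow_wedgeMod _ i⟩) n
  rw [wedgeCl, dif_pos h₂]
  refine (congrArg (toKR X) h).trans ?_
  rw [map_sum]
  refine Finset.sum_congr rfl fun i _ => ?_
  rw [wedgeCl_eq h₁ (Groth.L12.ExtSh.isExtPow_wedgeMod _ i), wedgeCl_eq h₃ (Groth.L12.ExtSh.isExtPow_wedgeMod _ _)]
  exact (toKR_cl_mul (Groth.L12.ExtSh.isFinLocFree_wedgeMod h₁ i) (Groth.L12.ExtSh.isFinLocFree_wedgeMod h₃ _)).symm

open scoped Classical in
/-- `λ_t` of a bundle, as a unit. -/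
def serUnit (E : X.Modules) : (PowerSeries (KR X))ˣ :=
  if h : FlatMod.IsFinLocFree E then
    (PowerSeries.isUnit_iff_constantCoeff.2 (show IsUnit (PowerSeries.constantCoeff (PowerSeries.mk (wedgeCl E))) by
      rw [← PowerSeries.coeff_zero_eq_constantCoeff_apply, PowerSeries.coeff_mk, wedgeCl_zero h]
      exact isUnit_one)).unit
  else 1

theorem coeff_serUnit {E : X.Modules} (hE : FlatMod.IsFinLocFree E) (i : ℕ) :
    PowerSeries.coeff i (serUnit E : PowerSeries (KR X)) = wedgeCl E i := by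
  rw [serUnit, dif_pos hE, IsUnit.unit_spec, PowerSeries.coeff_mk]

theorem serUnit_shortExact (S : ShortComplex X.Modules) (hS : S.ShortExact) (h₁ : FlatMod.IsFinLocFree S.X₁)
    (h₂ : FlatMod.IsFinLocFree S.X₂) (h₃ : FlatMod.IsFinLocFree S.X₃) :
    Additive.ofMul (serUnit S.X₂) = Additive.ofMul (serUnit S.X₁) + Additive.ofMul (serUnit S.X₃) := by
  refine congrArg Additive.ofMul (Units.ext (PowerSeries.ext fun n => ?_))
  rw [Units.val_mul, PowerSeries.coeff_mul, Finset.Nat.sum_antidiagonal_eq_sum_range_succ_mk,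
    coeff_serUnit h₂, wedgeCl_shortExact hS h₁ h₂ h₃]
  exact Finset.sum_congr rfl fun i _ =>
    (congrArg₂ (· * ·) (coeff_serUnit h₁ i) (coeff_serUnit h₃ (n - i))).symm

variable (X) in
/-- `λ_t` as a homomorphism. -/
def serHom : SGA6.Kvb X →+ Additive (PowerSeries (KR X))ˣ :=
  Groth.L29.KSub.lift (P := KRR.vbP X) (fun E => Additive.ofMul (serUnit E)) serUnit_shortExact

theorem serHom_cl {E : X.Modules} (hE : FlatMod.IsFinLocFree E) :
    serHom X (KRR.cl X E) = Additive.ofMul (serUnit E) :=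
  Groth.L29.KSub.lift_clSub _ _ hE

/-- `λ_t(x)`. -/
def ser (x : KR X) : PowerSeries (KR X) := (Additive.toMul (serHom X x) : (PowerSeries (KR X))ˣ)

theorem ser_add (x y : KR X) : ser (x + y) = ser x * ser y := by
  unfold ser
  rw [← Units.val_mul, ← toMul_add]
  exact congrArg (fun z => ((Additive.toMul z : (PowerSeries (KR X))ˣ) : PowerSeries (KR X))) (map_add (serHom X) x y)

theorem ser_cl {E : X.Modules} (hE : FlatMod.IsFinLocFree E) :
    ser (toKR X (KRR.cl X E)) = (serUnit E : PowerSeries (KR X)) :=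
  congrArg (fun z => ((Additive.toMul z : (PowerSeries (KR X))ˣ) : PowerSeries (KR X))) (serHom_cl hE)

theorem constantCoeff_ser (x : KR X) : PowerSeries.constantCoeff (ser x) = 1 := by
  let c : (PowerSeries (KR X))ˣ →* (KR X)ˣ := Units.map (PowerSeries.constantCoeff (R := KR X)).toMonoidHom
  have h : (MonoidHom.toAdditive c).comp (serHom X) = 0 := Groth.L29.KSub.hom_ext fun E hE => by
    show (MonoidHom.toAdditive c) (serHom X (KRR.cl X E)) = 0
    rw [serHom_cl hE]
    refine congrArg Additive.ofMul (Units.ext ?_)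
    show PowerSeries.constantCoeff (serUnit E : PowerSeries (KR X)) = 1
    rw [← PowerSeries.coeff_zero_eq_constantCoeff_apply, coeff_serUnit hE, wedgeCl_zero hE]
  exact congrArg (fun z => ((Additive.toMul z : (KR X)ˣ) : KR X)) (DFunLike.congr_fun h x)

/-- The first coefficient is additive. -/
theorem coeff_one_ser (x : KR X) : PowerSeries.coeff 1 (ser x) = x := by
  let l : SGA6.Kvb X →+ KR X := AddMonoidHom.mk' (fun x => PowerSeries.coeff 1 (ser x)) fun a b => by
    show PowerSeries.coeff 1 (ser ((a : KR X) + b)) = _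
    rw [ser_add, PowerSeries.coeff_mul, Finset.Nat.sum_antidiagonal_eq_sum_range_succ_mk, Finset.sum_range_succ,
      Finset.sum_range_one]
    simp [constantCoeff_ser, add_comm]
  have h : l = toKR X := Groth.L29.KSub.hom_ext fun E hE => by
    show PowerSeries.coeff 1 (ser (toKR X (KRR.cl X E))) = toKR X (KRR.cl X E)
    rw [ser_cl hE, coeff_serUnit hE, wedgeCl_one hE]
  exact DFunLike.congr_fun h x

/-- The λ-operations on the ring of bundles. -/
instance lambdaOps : LambdaRing.LambdaOps (KR X) where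
  lam i x := PowerSeries.coeff i (ser x)
  lam_zero x := by rw [PowerSeries.coeff_zero_eq_constantCoeff_apply, constantCoeff_ser]
  lam_one := coeff_one_ser
  lam_add k x y := by
    rw [ser_add, PowerSeries.coeff_mul, Finset.Nat.sum_antidiagonal_eq_sum_range_succ_mk]

theorem lam_cl {E L : X.Modules} (hE : FlatMod.IsFinLocFree E) {i : ℕ} (hL : ExtPow.IsExtPow i E L) :
    LambdaRing.LambdaOps.lam i (toKR X (KRR.cl X E)) = toKR X (KRR.cl X L) := by
  show PowerSeries.coeff i (ser (toKR X (KRR.cl X E))) = _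
  rw [ser_cl hE, coeff_serUnit hE, wedgeCl_eq hE hL]

end Groth.L12.Kvb
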