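import Groth.Prelude.Def_SGA6
import Groth.Prelude.Def_KRR
import Groth.Agent.L29.K.Sub
import Groth.Agent.L29.DCoh.TensorPerfect
import Groth.Agent.L29.DCoh.PCQCoh
import Groth.Agent.L16.FrameIso
import Groth.Agent.L16.HomSh.QAffineCompletion
import Groth.Agent.L12.ExtSh.Free

/-!
# The ring of bundles up to short exact sequences
-/

set_option autoImplicit false
set_option linter.style.haveILetI false
set_option backward.isDefEq.respectTransparency false
set_option backward.isDefEq.respectTransparency.types false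

universe u

open CategoryTheory CategoryTheory.Limits AlgebraicGeometry
open Groth.L00.Tensor (tensorIso tensorComm tensorAssoc tensorUnitLeft)

noncomputable section

namespace Groth.L12.Kvb

variable (X : Scheme.{u})

instance closed_vb : (KRR.vbP X).IsClosedUnderIsomorphisms := ⟨fun e h => Groth.L29.LocFree.of_iso e h⟩

variable {X}

theorem cl_iso {E F : X.Modules} (e : E ≅ F) (hE : FlatMod.IsFinLocFree E) : KRR.cl X E = KRR.cl X F :=
  Groth.L29.KSub.clSub_iso (KRR.vbP X) e (isZero_zero _) (Groth.L29.LocFree.of_isZero (isZero_zero _)) hE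

theorem cl_shortExact {S : ShortComplex X.Modules} (hS : S.ShortExact) (h₁ : FlatMod.IsFinLocFree S.X₁)
    (h₂ : FlatMod.IsFinLocFree S.X₂) (h₃ : FlatMod.IsFinLocFree S.X₃) :
    KRR.cl X S.X₂ = KRR.cl X S.X₁ + KRR.cl X S.X₃ :=
  Groth.L29.KSub.clSub_shortExact (KRR.vbP X) hS h₁ h₂ h₃

open scoped Classical in
/-- Tensoring with a bundle. -/
def mulBy (E : X.Modules) : SGA6.Kvb X →+ SGA6.Kvb X :=
  if hE : FlatMod.IsFinLocFree E then
    Groth.L29.KSub.lift (P := KRR.vbP X) (fun F => KRR.cl X (CohB1.tensorMod E F)) fun S hS h₁ h₂ h₃ =>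
      cl_shortExact (Groth.L16.FrameIso.shortExact_tensor_left (Groth.L29.DC.isFlat_of_isFinLocFree hE) S hS)
        (Groth.L29.DC.isFinLocFree_tensor hE h₁) (Groth.L29.DC.isFinLocFree_tensor hE h₂)
        (Groth.L29.DC.isFinLocFree_tensor hE h₃)
  else 0

theorem mulBy_cl {E F : X.Modules} (hE : FlatMod.IsFinLocFree E) (hF : FlatMod.IsFinLocFree F) :
    mulBy E (KRR.cl X F) = KRR.cl X (CohB1.tensorMod E F) := by
  rw [mulBy, dif_pos hE]
  exact Groth.L29.KSub.lift_clSub _ _ hF

theorem mulBy_shortExact (S : ShortComplex X.Modules) (hS : S.ShortExact) (h₁ : FlatMod.IsFinLocFree S.X₁)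
    (h₂ : FlatMod.IsFinLocFree S.X₂) (h₃ : FlatMod.IsFinLocFree S.X₃) :
    mulBy S.X₂ = mulBy S.X₁ + mulBy S.X₃ :=
  Groth.L29.KSub.hom_ext fun F hF => by
    rw [AddMonoidHom.add_apply, mulBy_cl h₂ hF, mulBy_cl h₁ hF, mulBy_cl h₃ hF,
      cl_iso (tensorComm S.X₂ F) (Groth.L29.DC.isFinLocFree_tensor h₂ hF),
      cl_iso (tensorComm S.X₁ F) (Groth.L29.DC.isFinLocFree_tensor h₁ hF),
      cl_iso (tensorComm S.X₃ F) (Groth.L29.DC.isFinLocFree_tensor h₃ hF)]
    exact cl_shortExact (Groth.L16.FrameIso.shortExact_tensor_left (Groth.L29.DC.isFlat_of_isFinLocFree hF) S hS)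
      (Groth.L29.DC.isFinLocFree_tensor hF h₁) (Groth.L29.DC.isFinLocFree_tensor hF h₂)
      (Groth.L29.DC.isFinLocFree_tensor hF h₃)

/-- The product of classes. -/
def mul : SGA6.Kvb X →+ SGA6.Kvb X →+ SGA6.Kvb X :=
  Groth.L29.KSub.lift (P := KRR.vbP X) mulBy mulBy_shortExact

theorem mul_cl {E F : X.Modules} (hE : FlatMod.IsFinLocFree E) (hF : FlatMod.IsFinLocFree F) :
    mul (KRR.cl X E) (KRR.cl X F) = KRR.cl X (CohB1.tensorMod E F) := by
  rw [mul, KRR.cl, Groth.L29.KSub.lift_clSub _ _ hE]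
  exact mulBy_cl hE hF

theorem mul_comm' (x y : SGA6.Kvb X) : mul x y = mul y x := by
  have h : (mul : SGA6.Kvb X →+ SGA6.Kvb X →+ SGA6.Kvb X) = mul.flip :=
    Groth.L29.KSub.hom_ext fun E hE => Groth.L29.KSub.hom_ext fun F hF => by
      show mul (KRR.cl X E) (KRR.cl X F) = mul (KRR.cl X F) (KRR.cl X E)
      rw [mul_cl hE hF, mul_cl hF hE]
      exact cl_iso (tensorComm E F) (Groth.L29.DC.isFinLocFree_tensor hE hF)
  exact DFunLike.congr_fun (DFunLike.congr_fun h x) y

theorem isFinLocFree_O : FlatMod.IsFinLocFree (Coh.structureModule X) :=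
  Groth.L16.HomSh.isFinLocFree_unit X

theorem one_mul' (x : SGA6.Kvb X) : mul (KRR.cl X (Coh.structureModule X)) x = x := by
  have h : mul (KRR.cl X (Coh.structureModule X)) = AddMonoidHom.id (SGA6.Kvb X) :=
    Groth.L29.KSub.hom_ext fun F hF => by
      show mul _ (KRR.cl X F) = KRR.cl X F
      rw [mul_cl isFinLocFree_O hF]
      exact cl_iso (tensorUnitLeft F) (Groth.L29.DC.isFinLocFree_tensor isFinLocFree_O hF)
  exact DFunLike.congr_fun h x

theorem mul_assoc' (x y z : SGA6.Kvb X) : mul (mul x y) z = mul x (mul y z) := by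
  let L : SGA6.Kvb X →+ SGA6.Kvb X →+ SGA6.Kvb X →+ SGA6.Kvb X :=
    AddMonoidHom.mk' (fun a => mul.comp (mul a)) fun a b => by
      ext c d
      simp [map_add]
  let R : SGA6.Kvb X →+ SGA6.Kvb X →+ SGA6.Kvb X →+ SGA6.Kvb X :=
    AddMonoidHom.mk' (fun a => (AddMonoidHom.compHom (mul a)).comp mul) fun a b => by
      ext c d
      simp [map_add]
  have h : L = R := Groth.L29.KSub.hom_ext fun E hE => Groth.L29.KSub.hom_ext fun F hF =>
    Groth.L29.KSub.hom_ext fun G hG => by
      show mul (mul (KRR.cl X E) (KRR.cl X F)) (KRR.cl X G) = mul (KRR.cl X E) (mul (KRR.cl X F) (KRR.cl X G))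
      rw [mul_cl hE hF, mul_cl hF hG, mul_cl (Groth.L29.DC.isFinLocFree_tensor hE hF) hG,
        mul_cl hE (Groth.L29.DC.isFinLocFree_tensor hF hG)]
      exact cl_iso (tensorAssoc E F G)
        (Groth.L29.DC.isFinLocFree_tensor (Groth.L29.DC.isFinLocFree_tensor hE hF) hG)
  exact DFunLike.congr_fun (DFunLike.congr_fun (DFunLike.congr_fun h x) y) z

variable (X) in
/-- The ring of bundles. -/
def KR : Type (u + 1) := SGA6.Kvb X

instance addCommGroup : AddCommGroup (KR X) := inferInstanceAs (AddCommGroup (SGA6.Kvb X))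

/-- The ring structure. -/
instance commRing : CommRing (KR X) :=
  { (addCommGroup : AddCommGroup (KR X)) with
    mul := fun x y => mul x y
    one := KRR.cl X (Coh.structureModule X)
    mul_assoc := mul_assoc'
    one_mul := one_mul'
    mul_one := fun x => (mul_comm' _ _).trans (one_mul' x)
    left_distrib := fun x y z => map_add (mul x) y z
    right_distrib := fun x y z => DFunLike.congr_fun (map_add mul x y) z
    zero_mul := fun x => DFunLike.congr_fun (map_zero mul) x
    mul_zero := fun x => map_zero (mul x)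
    mul_comm := mul_comm' }

variable (X) in
/-- The identification. -/
def toKR : SGA6.Kvb X →+ KR X where
  toFun x := x
  map_zero' := rfl
  map_add' _ _ := rfl

theorem toKR_bijective : Function.Bijective (toKR X) := Function.bijective_id

theorem toKR_cl_mul {E F : X.Modules} (hE : FlatMod.IsFinLocFree E) (hF : FlatMod.IsFinLocFree F) :
    toKR X (KRR.cl X E) * toKR X (KRR.cl X F) = toKR X (KRR.cl X (CohB1.tensorMod E F)) :=
  mul_cl hE hF

theorem toKR_one : toKR X (KRR.cl X (Coh.structureModule X)) = 1 := rfl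

end Groth.L12.Kvb
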